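import Groth.Agent.GrpQLib.OrbitImage
import Groth.Prelude.Def_RedSub
import Mathlib.AlgebraicGeometry.Morphisms.Immersion

/-! Factorisations with a finitely presented flat kernel pair; quotients by flat stabilisers. -/

universe u

set_option autoImplicit false
set_option backward.isDefEq.respectTransparency.types false
set_option maxHeartbeats 800000
set_option linter.style.haveILetI false

open CategoryTheory CategoryTheory.Limits MonoidalCategory CartesianMonoidalCategory MonObj GrpObj AlgebraicGeometry AlgSp Groth.Agent.AlgSpLib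
open Groth.Agent.GrpQLib (kerOver kerFst kerSnd isEqvRel_kerOver isPullback_kerOver)

namespace Groth.Agent.SGA3Quot26

section
variable {X Y : Scheme.{u}} (f : X ⟶ Y)

theorem exists_factor [LocallyOfFiniteType f] [Flat (pullback.fst f f)]
    [LocallyOfFinitePresentation (pullback.fst f f)] :
    ∃ (X' : Scheme.{u}) (f' : X ⟶ X') (f'' : X' ⟶ Y),
      Surjective f' ∧ Flat f' ∧ LocallyOfFinitePresentation f' ∧ Mono f'' ∧ f' ≫ f'' = f := by
  have hfs : Flat (kerFst f).left := ‹Flat (pullback.fst f f)›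
  have hls : LocallyOfFinitePresentation (kerFst f).left := ‹LocallyOfFinitePresentation (pullback.fst f f)›
  have hlt : LocallyOfFiniteType (kerSnd f).left :=
    MorphismProperty.pullback_snd (P := @LocallyOfFiniteType) f f inferInstance
  have h := isEqvRel_kerOver f
  let F := quotSp ((yon Y).map (kerFst f)) ((yon Y).map (kerSnd f))
  let π : (yon Y).obj (Over.mk f) ⟶ F := quotSpπ _ _
  have hF : IsAlgSpace F := Stk19b.Fppf.isAlgSpace_quotSp_of_isEqvRel h
  have := etLocal_flat.{u}.localTarget
  have := etLocal_lfp.{u}.localTarget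
  have hπf : RepWith @Flat π := repWith_quotSpπ h @Flat hfs
  have hπl : RepWith @LocallyOfFinitePresentation π := repWith_quotSpπ h @LocallyOfFinitePresentation hls
  have hπs : RepWith @Surjective π := repWith_surjective_quotSpπ h
  have sq := (isPullback_kerOver f).map (yon Y)
  let u0 : Over.mk f ⟶ Over.mk (𝟙 Y) := Over.homMk f
  let d : F ⟶ (yon Y).obj (Over.mk (𝟙 Y)) := quotSpDesc ((yon Y).map u0) sq.w
  have hπd : π ≫ d = (yon Y).map u0 := quotSpπ_desc _ _ _ _
  have : Mono d := mono_quotSpDesc sq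
  have hl : LocP @LocallyOfFiniteType d := by
    intro U V a b u ha hb w
    have sqP := hπf.1.isPullback a
    let g : hπf.1.pullback a ⟶ U := hπf.1.snd a
    let k : hπf.1.pullback a ⟶ Over.mk f := hπf.1.fst' a
    have hk : (yon Y).map k = hπf.1.fst a := Functor.relativelyRepresentable.map_fst' _ _
    have hkE : Etale k.left := by
      refine ha.2 π ((yon Y).map g) k ?_
      rw [hk]
      exact sqP.flip
    have : Flat g.left := hπf.2 _ _ _ sqP
    have : LocallyOfFinitePresentation g.left := hπl.2 _ _ _ sqP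
    have : Surjective g.left := hπs.2 _ _ _ sqP
    refine lft_of_comp_fppf g.left u.left ?_
    obtain ⟨b', hb'⟩ := (yon Y).map_surjective b
    have hbE : Etale b'.left := (repWith_yon_map_iff (P := @Etale) b').1 (hb' ▸ hb)
    have e : g ≫ u ≫ b' = k ≫ u0 := by
      apply (yon Y).map_injective
      simp only [Functor.map_comp, hb', hk, ← hπd]
      rw [← w, ← Category.assoc, ← sqP.w, Category.assoc]
    have e' : (g.left ≫ u.left) ≫ b'.left = k.left ≫ f := by
      rw [Category.assoc]; exact congrArg (fun z => z.left) e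
    have : LocallyOfFiniteType ((g.left ≫ u.left) ≫ b'.left) := by rw [e']; infer_instance
    exact locallyOfFiniteType_of_comp _ b'.left
  obtain ⟨hr, -, -⟩ := mono_lft_package hF (IsAlgSpace.yon_obj _) (f := d) hl
  have sqd := hr.isPullback (𝟙 ((yon Y).obj (Over.mk (𝟙 Y))))
  have : IsIso (hr.fst (𝟙 ((yon Y).obj (Over.mk (𝟙 Y))))) := sqd.isIso_fst_of_isIso
  let e := asIso (hr.fst (𝟙 ((yon Y).obj (Over.mk (𝟙 Y)))))
  let G := hr.pullback (𝟙 ((yon Y).obj (Over.mk (𝟙 Y))))
  let p : Over.mk f ⟶ G := (yon Y).preimage (π ≫ e.inv)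
  have hp : (yon Y).map p = π ≫ e.inv := (yon Y).map_preimage _
  have sqp : IsPullback (𝟙 _) ((yon Y).map p) π e.hom := by
    refine IsPullback.of_horiz_isIso ⟨?_⟩
    rw [hp, Category.id_comp, Category.assoc, Iso.inv_hom_id, Category.comp_id]
  refine ⟨G.left, p.left, G.hom, hπs.2 _ _ _ sqp, hπf.2 _ _ _ sqp, hπl.2 _ _ _ sqp, ⟨fun {T} a b hab => ?_⟩, Over.w p⟩
  let A : Over.mk (a ≫ G.hom) ⟶ G := Over.homMk a
  let B : Over.mk (a ≫ G.hom) ⟶ G := Over.homMk b hab.symm
  have hAB : (yon Y).map A ≫ e.hom = (yon Y).map B ≫ e.hom := by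
    rw [← cancel_mono d]
    obtain ⟨c, hc⟩ := (yon Y).map_surjective (e.hom ≫ d)
    rw [Category.assoc, Category.assoc, ← hc, ← Functor.map_comp, ← Functor.map_comp]
    exact congrArg _ (Over.OverMorphism.ext (by
      exact (Category.comp_id _).symm.trans ((Over.w (A ≫ c)).trans ((Over.w (B ≫ c)).symm.trans (Category.comp_id _)))))
  exact congrArg (fun z : Over.mk (a ≫ G.hom) ⟶ G => z.left) ((yon Y).map_injective ((cancel_mono e.hom).1 hAB))

end

variable {S : Scheme.{u}} {G X : Over S} [GrpObj G] [LocallyOfFinitePresentation G.hom] (a : AlgGrp.Action G X)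
  (ξ : 𝟙_ (Over S) ⟶ X)

/-- The homogeneous space of a flat stabiliser. -/
theorem exists_homogeneous (H : Over S) (h : H ⟶ G) (hH : IsPullback h (toUnit H) (a.orbitMap ξ) ξ) [Flat H.hom]
    (hX : LocallyOfFiniteType X.hom ∨ IsLocallyNoetherian S) :
    ∃ (Q : Over S) (q : G ⟶ Q), RedSub.IsQuotient h q ∧ LocallyOfFinitePresentation Q.hom ∧
      ∃ m : Q ⟶ X, Mono m ∧ q ≫ m = a.orbitMap ξ := by
  let o := a.orbitMap ξ
  haveI : LocallyOfFiniteType (o.left ≫ X.hom) := by rw [Over.w]; infer_instance
  haveI : LocallyOfFiniteType o.left := locallyOfFiniteType_of_comp o.left X.hom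
  have sqh : IsPullback h.left H.hom o.left ξ.left := hH.map (Over.forget S)
  let e := hH.isoPullback
  have he : e.hom ≫ pullback.fst o ξ = h := hH.isoPullback_hom_fst
  have sqG : IsPullback (fst G H) ((G ◁ h) ≫ μ[G]) o o := by
    refine (GrpQLib.isPullback_orbitMap a ξ).flip.of_iso (whiskerLeftIso G e.symm) (Iso.refl _) (Iso.refl _)
      (Iso.refl _) ?_ ?_ (by simp [o]) (by simp [o])
    · simp
    · simp only [whiskerLeftIso_hom, Iso.symm_hom, Iso.refl_hom, Category.comp_id]
      rw [← MonoidalCategory.whiskerLeft_comp_assoc, ← he, Iso.inv_hom_id_assoc]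
  have hfp : LocallyOfFinitePresentation H.hom := by
    rcases hX with h' | h'
    · have : LocallyOfFinitePresentation (o.left ≫ X.hom) := by rw [Over.w]; infer_instance
      have : LocallyOfFinitePresentation o.left := H8Lim.lfp_cancel_right o.left X.hom
      exact MorphismProperty.of_isPullback sqh inferInstance
    · haveI : IsImmersion (ξ.left ≫ X.hom) := by
        rw [Over.w]; exact inferInstanceAs (IsImmersion (𝟙 S))
      haveI : IsImmersion ξ.left := IsImmersion.of_comp ξ.left X.hom
      haveI : IsImmersion h.left := MorphismProperty.of_isPullback sqh.flip inferInstance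
      haveI : LocallyOfFiniteType H.hom := by rw [← Over.w h]; infer_instance
      exact LocallyOfFinitePresentation.iff_locallyOfFiniteType.2 inferInstance
  haveI : Flat (fst G H).left := MorphismProperty.pullback_fst (P := @Flat) _ _ ‹Flat H.hom›
  haveI : LocallyOfFinitePresentation (fst G H).left :=
    MorphismProperty.pullback_fst (P := @LocallyOfFinitePresentation) _ _ hfp
  have sq := sqG.map (Over.forget S)
  haveI : Flat (pullback.fst o.left o.left) := by
    refine (MorphismProperty.cancel_left_of_respectsIso @Flat sq.isoPullback.hom _).1 ?_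
    exact (congrArg (fun z => Flat z) sq.isoPullback_hom_fst).mpr ‹Flat (fst G H).left›
  haveI : LocallyOfFinitePresentation (pullback.fst o.left o.left) := by
    refine (MorphismProperty.cancel_left_of_respectsIso @LocallyOfFinitePresentation sq.isoPullback.hom _).1 ?_
    exact (congrArg (fun z => LocallyOfFinitePresentation z) sq.isoPullback_hom_fst).mpr
      ‹LocallyOfFinitePresentation (fst G H).left›
  obtain ⟨X', f', f'', h1, h2, h3, h4, e'⟩ := exists_factor o.left
  let Q : Over S := Over.mk (f'' ≫ X.hom)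
  let q : G ⟶ Q := Over.homMk f' (by show f' ≫ f'' ≫ X.hom = G.hom; rw [reassoc_of% e', Over.w])
  let m : Q ⟶ X := Over.homMk f''
  have hqm : q ≫ m = o := Over.OverMorphism.ext e'
  haveI : Mono m := Over.mono_of_mono_left (Over.homMk f'' : Q ⟶ X)
  refine ⟨Q, q, ⟨h1, h2, h3, ?_⟩,
    AlgSpLib.lfp_of_comp_fppf f' (f'' ≫ X.hom) (by rw [reassoc_of% e', Over.w]; infer_instance), m, inferInstance, hqm⟩
  have sqo : IsPullback (fst G H) ((G ◁ h) ≫ μ[G]) (q ≫ m) (q ≫ m) := by rw [hqm]; exact sqG
  refine IsPullback.of_isLimit' ⟨?_⟩ (PullbackCone.IsLimit.mk _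
    (fun s => sqo.lift s.fst s.snd (by rw [reassoc_of% s.condition]))
    (fun s => sqo.lift_fst _ _ _) (fun s => sqo.lift_snd _ _ _)
    (fun s m k1 k2 => sqo.hom_ext (k1.trans (sqo.lift_fst _ _ _).symm) (k2.trans (sqo.lift_snd _ _ _).symm)))
  rw [← cancel_mono m, Category.assoc, Category.assoc]
  exact sqo.w

/-- Translation action of `G` on `H` through a homomorphism. -/
noncomputable def translationAction {S : Scheme.{u}} {G H : Over S} [GrpObj G] [GrpObj H] (u : G ⟶ H) [IsMonHom u] :
    AlgGrp.Action G H where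
  act := (fst G H ≫ u) * snd G H
  one_act := by
    rw [MonObj.comp_mul, whiskerRight_fst_assoc, whiskerRight_snd, IsMonHom.one_hom, MonObj.one_eq_one H,
      MonObj.comp_one, _root_.one_mul]
    rfl
  mul_act := by
    simp only [MonObj.comp_mul, whiskerRight_fst_assoc, whiskerRight_snd, whiskerLeft_fst_assoc, whiskerLeft_snd,
      associator_hom_fst_assoc, whiskerLeft_snd_assoc, associator_hom_snd_fst_assoc, associator_hom_snd_snd,
      Category.assoc, IsMonHom.mul_hom]
    rw [← _root_.mul_assoc]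
    congr 1
    rw [show (u ⊗ₘ u) ≫ μ[H] = (fst G G ≫ u) * (snd G G ≫ u) by rw [Hom.mul_def]; congr 1, MonObj.comp_mul]

theorem orbitMap_translation {S : Scheme.{u}} {G H : Over S} [GrpObj G] [GrpObj H] (u : G ⟶ H) [IsMonHom u] :
    (translationAction u).orbitMap η[H] = u := by
  simp only [AlgGrp.Action.orbitMap, translationAction, MonObj.comp_mul, lift_fst_assoc, lift_snd, Category.id_comp,
    MonObj.one_eq_one H, MonObj.comp_one, _root_.mul_one]

/-- The group structure on the image. -/
theorem exists_grpObj_image {S : Scheme.{u}} {G Q H : Over S} [GrpObj G] [GrpObj H] (q : G ⟶ Q) (m : Q ⟶ H) [Mono m]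
    [Surjective q.left] [Flat q.left] [LocallyOfFinitePresentation q.left] (u : G ⟶ H) [IsMonHom u] (e : q ≫ m = u) :
    ∃ (_ : GrpObj Q) (_ : IsMonHom q) (_ : IsMonHom m), True := by
  haveI : Surjective (q ⊗ₘ q).left :=
    MorphismProperty.pullbackMap (P := @Surjective) ‹Surjective q.left› ‹Surjective q.left› (Over.w q).symm (Over.w q).symm
  haveI : Flat (q ⊗ₘ q).left :=
    MorphismProperty.pullbackMap (P := @Flat) ‹Flat q.left› ‹Flat q.left› (Over.w q).symm (Over.w q).symm
  haveI : LocallyOfFinitePresentation (q ⊗ₘ q).left :=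
    MorphismProperty.pullbackMap (P := @LocallyOfFinitePresentation) ‹LocallyOfFinitePresentation q.left›
      ‹LocallyOfFinitePresentation q.left› (Over.w q).symm (Over.w q).symm
  obtain ⟨n, hn⟩ := GrpQLib.exists_factor_fppf (q ⊗ₘ q) m ((fst Q Q ≫ m) * (snd Q Q ≫ m)) (μ[G] ≫ q) (by
    rw [Category.assoc, e, IsMonHom.mul_hom, MonObj.comp_mul, tensorHom_fst_assoc, tensorHom_snd_assoc, e, Hom.mul_def]
    congr 1)
  obtain ⟨v, hv⟩ := GrpQLib.exists_factor_fppf q m m⁻¹ (ι[G] ≫ q) (by
    rw [Category.assoc, e, GrpObj.comp_inv, e, Hom.inv_def]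
    exact GrpObj.inv_hom u)
  obtain ⟨gQ, hm⟩ := AlgGrpLib.exists_grpObj_of_mono m
    ⟨η[G] ≫ q, by rw [Category.assoc, e, IsMonHom.one_hom, MonObj.one_eq_one]⟩ ⟨n, hn⟩ ⟨v, hv⟩
  refine ⟨gQ, ⟨?_, ?_⟩, hm, trivial⟩
  · rw [← cancel_mono m, Category.assoc, e, IsMonHom.one_hom, IsMonHom.one_hom m]
  · rw [← cancel_mono m, Category.assoc, e, IsMonHom.mul_hom, Category.assoc, IsMonHom.mul_hom m,
      ← Category.assoc, MonoidalCategory.tensorHom_comp_tensorHom, e]

end Groth.Agent.SGA3Quot26
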